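import Groth.Agent.H56.ExtOpen.Main

/-!
# The affine scheme version
-/

set_option autoImplicit false
set_option linter.style.haveILetI false

universe u

open CategoryTheory Limits AlgebraicGeometry

attribute [local instance] HasDerivedCategory.standard

namespace Groth.Agent.H56.ExtOpen

open Groth.Agent.Lib Groth.Agent.Lib.Perfect.Basic

/-- A pseudo-coherent object of a quasi-compact open of an affine scheme extends to a bounded above
complex of finite free modules. -/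
theorem exists_free_affine (X : Scheme.{u}) [IsAffine X] (U : X.Opens) (hU : IsCompact (U : Set X))
    (E : DCoh.D (U : Scheme.{u})) (hE : ∀ m : ℤ, DCoh.IsPseudoCoherentD m E) :
    ∃ (G : CochainComplex X.Modules ℤ) (b : ℤ), (∀ i : ℤ, b < i → IsZero (G.X i)) ∧
      (∀ i : ℤ, ∃ n : ℕ, Nonempty (G.X i ≅ FlatMod.freeMod X n)) ∧
      Nonempty (DerivedCategory.Q.obj ((DCoh.restrictCx U).obj G) ≅ E) := by
  haveI : CompactSpace (U : Scheme.{u}) := isCompact_iff_compactSpace.1 hU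
  let j := U.ι ≫ X.isoSpec.hom
  obtain ⟨G₀, ⟨⟨b, hb⟩, hG⟩, ⟨e⟩⟩ := exists_free j E hE
  let T := ((tilde.functor Γ(X, ⊤)).mapHomologicalComplex (ComplexShape.up ℤ)).obj G₀
  refine ⟨(rC X.isoSpec.hom).obj T, b, fun i hi => ?_, fun i => ?_, ⟨?_⟩⟩
  · exact (tilde.functor Γ(X, ⊤) ⋙ Scheme.Modules.restrictFunctor X.isoSpec.hom).map_isZero (hb i hi)
  · obtain ⟨n, ⟨a⟩⟩ := hG i
    exact ⟨n, ⟨(Scheme.Modules.restrictFunctor X.isoSpec.hom).mapIso
      ((tilde.functor Γ(X, ⊤)).mapIso a ≪≫ Kaehler.LocFree.tildeFreeIso (R := Γ(X, ⊤))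
        (M := ModuleCat.of Γ(X, ⊤) (Fin n → Γ(X, ⊤))) (Pi.basisFun Γ(X, ⊤) (Fin n))) ≪≫
      Modules.Free.restrictFreeIso X.isoSpec.hom n⟩⟩
  · exact DerivedCategory.Q.mapIso ((rCComp U.ι X.isoSpec.hom).app T).symm ≪≫ e

end Groth.Agent.H56.ExtOpen
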