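import Groth.Agent.Lib.PCoh.Infinite
import Mathlib.Algebra.Homology.HomotopyCategory.MappingCone

/-!
# Resolutions up to an exact functor
-/

set_option autoImplicit false
set_option linter.unusedSectionVars false

open CategoryTheory CategoryTheory.Limits CochainComplex
open _root_.PCoh Groth.Agent.Lib.PCoh.Cone Groth.Agent.Lib.PCoh.Ext Groth.Agent.Lib.PCoh.Basic
  Groth.Agent.Lib.PCoh.Resolve

namespace Groth.Agent.H56.ExtOpen.Gen

universe v u v' u'

variable {C : Type u} [Category.{v} C] [Abelian C] {D : Type u'} [Category.{v'} D] [Abelian D]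
variable (R : C ⥤ D) [R.Additive] [PreservesFiniteLimits R] [PreservesFiniteColimits R]
variable {E F Q : CochainComplex C ℤ}

/-- `R` on complexes. -/
abbrev rC : CochainComplex C ℤ ⥤ CochainComplex D ℤ := R.mapHomologicalComplex (ComplexShape.up ℤ)

/-- The image of extension data. -/
noncomputable def mapData {u : E ⟶ F} (x : ExtData u Q) : ExtData ((rC R).map u) ((rC R).obj Q) where
  a i := R.map (x.a i)
  b i := R.map (x.b i)
  ha i := ((congrArg₂ (· + ·) (R.map_comp _ _).symm (R.map_comp _ _).symm).trans R.map_add.symm).trans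
    ((congrArg R.map (x.ha i)).trans (R.map_zero _ _))
  hb i := ((R.map_comp _ _).symm.trans ((congrArg R.map (x.hb i)).trans R.map_add)).trans
    (congrArg₂ (· + ·) (R.map_comp _ _) (R.map_comp _ _))

/-- The image of an extended complex. -/
noncomputable def cxIso {u : E ⟶ F} (x : ExtData u Q) : (mapData R x).cx ≅ (rC R).obj x.cx :=
  HomologicalComplex.Hom.isoOfComponents
    (fun i => (show R.obj (E.X i) ⊞ R.obj (Q.X i) ≅ R.obj (E.X i ⊞ Q.X i) from
      { hom := biprod.desc (R.map (x.ι₁ i)) (R.map (x.ι₂ i))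
        inv := biprod.lift (R.map (x.π₁ i)) (R.map (x.π₂ i))
        hom_inv_id := by
          apply biprod.hom_ext' <;> apply biprod.hom_ext <;>
            simp only [biprod.inl_desc_assoc, biprod.inr_desc_assoc, Category.assoc, biprod.lift_fst,
              biprod.lift_snd, Category.comp_id, biprod.inl_fst, biprod.inl_snd, biprod.inr_fst,
              biprod.inr_snd]
          · exact (R.map_comp _ _).symm.trans ((congrArg R.map (x.ι₁_π₁ i)).trans (R.map_id _))
          · exact (R.map_comp _ _).symm.trans ((congrArg R.map (x.ι₁_π₂ i)).trans (R.map_zero _ _))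
          · exact (R.map_comp _ _).symm.trans ((congrArg R.map (x.ι₂_π₁ i)).trans (R.map_zero _ _))
          · exact (R.map_comp _ _).symm.trans ((congrArg R.map (x.ι₂_π₂ i)).trans (R.map_id _))
        inv_hom_id := by
          show biprod.lift (R.map (x.π₁ i)) (R.map (x.π₂ i)) ≫
            biprod.desc (R.map (x.ι₁ i)) (R.map (x.ι₂ i)) = 𝟙 _
          rw [biprod.lift_desc, ← R.map_comp, ← R.map_comp, ← R.map_add, ← R.map_id]
          exact congrArg R.map (biprod.total (X := E.X i) (Y := Q.X i)) }))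
    (fun i j hij => by
      obtain rfl : i + 1 = j := hij
      apply (mapData R x).ext_from
      · erw [(mapData R x).ι₁_d_assoc i, biprod.inl_desc_assoc]
        erw [biprod.inl_desc]
        exact ((R.map_comp _ _).symm.trans (congrArg R.map (x.ι₁_d i))).trans (R.map_comp _ _)
      · erw [(mapData R x).ι₂_d_assoc i, biprod.inr_desc_assoc]
        erw [Preadditive.add_comp]
        refine ((R.map_comp _ _).symm.trans (congrArg R.map (x.ι₂_d i))).trans
          (R.map_add.trans (congrArg₂ (· + ·) ?_ ?_))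
        · exact ((R.map_comp _ _).trans (congrArg (R.map (x.a i) ≫ ·) (biprod.inl_desc _ _).symm)).trans
            (Category.assoc _ _ _).symm
        · exact ((R.map_comp _ _).trans
            (congrArg (R.map (Q.d i (i + 1)) ≫ ·) (biprod.inr_desc _ _).symm)).trans
            (Category.assoc _ _ _).symm)

theorem cxIso_desc {u : E ⟶ F} (x : ExtData u Q) :
    (cxIso R x).hom ≫ (rC R).map x.desc = (mapData R x).desc := by
  ext i
  apply (mapData R x).ext_from
  · rw [ExtData.desc_f, ExtData.ι₁_descF]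
    erw [biprod.inl_desc_assoc]
    exact (R.map_comp _ _).symm.trans (congrArg R.map (x.ι₁_descF i))
  · rw [ExtData.desc_f, ExtData.ι₂_descF]
    erw [biprod.inr_desc_assoc]
    exact ((R.map_comp _ _).symm.trans (congrArg R.map (x.ι₂_descF i))).trans R.map_neg

theorem exactGE_of_iso {E E' F : CochainComplex D ℤ} (e : E' ≅ E) (u : E ⟶ F) (n : ℤ)
    (h : ExactGE (e.hom ≫ u) n) : ExactGE u n := by
  rw [exactGE_iff] at h ⊢
  rw [HomologicalComplex.homologyMap_comp] at h
  refine ⟨@epi_of_epi _ _ _ _ _ _ _ h.1, fun i hi => ?_⟩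
  have := h.2 i hi
  rw [HomologicalComplex.homologyMap_comp] at this
  exact IsIso.of_isIso_comp_left (HomologicalComplex.homologyMap e.hom i) _

theorem toCone_ofHom {u : E ⟶ F} (x : Q ⟶ mappingCone u) :
    (mapData R (ExtData.ofHom x)).toCone =
      (rC R).map x ≫ (mappingCone.mapHomologicalComplexIso u R).hom := by
  ext i
  have h := mappingCone.mapHomologicalComplexXIso_eq u R i (i + 1) rfl
  apply mappingCone.ext_to _ i (i + 1) rfl
  · rw [HomologicalComplex.comp_f, Category.assoc]
    refine ((pair_fst _ i (i + 1) rfl _ _).trans (R.map_comp _ _)).trans (congrArg (R.map (x.f i) ≫ ·) ?_)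
    simp [rC, mappingCone.mapHomologicalComplexIso, h, mappingCone.mapHomologicalComplexXIso']
    exact (((Preadditive.add_comp _ _ _ _ _ _).trans (congrArg₂ (· + ·)
      ((Category.assoc _ _ _).trans ((congrArg (_ ≫ ·)
        (mappingCone.inl_v_fst_v ((rC R).map u) (i + 1) i rfl)).trans (Category.comp_id _)))
      ((Category.assoc _ _ _).trans ((congrArg (_ ≫ ·)
        (mappingCone.inr_f_fst_v ((rC R).map u) i (i + 1) rfl)).trans comp_zero)))).trans (add_zero _)).symm
  · rw [HomologicalComplex.comp_f, Category.assoc]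
    refine ((pair_snd _ i (i + 1) rfl _ _).trans (R.map_comp _ _)).trans (congrArg (R.map (x.f i) ≫ ·) ?_)
    simp [rC, mappingCone.mapHomologicalComplexIso, h, mappingCone.mapHomologicalComplexXIso']
    exact (((Preadditive.add_comp _ _ _ _ _ _).trans (congrArg₂ (· + ·)
      ((Category.assoc _ _ _).trans ((congrArg (_ ≫ ·)
        (mappingCone.inl_v_snd_v ((rC R).map u) (i + 1) i (by omega))).trans comp_zero))
      ((Category.assoc _ _ _).trans ((congrArg (_ ≫ ·)
        (mappingCone.inr_f_snd_v ((rC R).map u) i)).trans (Category.comp_id _))))).trans (zero_add _)).symm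

theorem epi_map_homology {A B : CochainComplex C ℤ} (x : A ⟶ B) (i : ℤ)
    (h : Epi (R.map (HomologicalComplex.homologyMap x i))) :
    Epi (HomologicalComplex.homologyMap ((rC R).map x) i) := by
  let φ := (HomologicalComplex.shortComplexFunctor C (ComplexShape.up ℤ) i).map x
  have hn := ShortComplex.mapHomologyIso_hom_naturality φ R
  change HomologicalComplex.homologyMap ((rC R).map x) i ≫ _ = _ at hn
  have : HomologicalComplex.homologyMap ((rC R).map x) i =
      (((A.sc i).mapHomologyIso R).hom ≫ R.map (HomologicalComplex.homologyMap x i)) ≫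
        ((B.sc i).mapHomologyIso R).inv := by
    exact ((((B.sc i).mapHomologyIso R).eq_comp_inv).2 hn)
  rw [this]
  exact @epi_comp _ _ _ _ _ _ (@epi_comp _ _ _ _ _ _ (IsIso.epi_of_iso _) _ h) _ (IsIso.epi_of_iso _)

/-- One step, up to `R`. -/
theorem step (n : ℤ) (u : E ⟶ F) (h : ExactGE ((rC R).map u) (n + 1)) (L : C)
    (v₀ : L ⟶ (mappingCone u).cycles n) (hv₀ : Epi (R.map (v₀ ≫ (mappingCone u).homologyπ n))) :
    ∃ (E' : CochainComplex C ℤ) (v : E ⟶ E') (u' : E' ⟶ F), v ≫ u' = u ∧
      (∀ i, i ≠ n → IsIso (v.f i)) ∧ (∀ i, Mono (v.f i)) ∧ Nonempty (E'.X n ≅ E.X n ⊞ L) ∧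
      ExactGE ((rC R).map u') n := by
  let c : L ⟶ (mappingCone u).X n := v₀ ≫ (mappingCone u).iCycles n
  have hc : ∀ j, c ≫ (mappingCone u).d n j = 0 := fun j => by simp [c]
  let x : (HomologicalComplex.single C (ComplexShape.up ℤ) n).obj L ⟶ mappingCone u :=
    HomologicalComplex.mkHomFromSingle c (fun i _ => hc i)
  let X := ExtData.ofHom x
  let X' := mapData R X
  have hz : ∀ i, i ≠ n → IsZero (((HomologicalComplex.single C (ComplexShape.up ℤ) n).obj L).X i) :=
    fun i hi => HomologicalComplex.isZero_single_obj_X _ _ _ _ hi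
  let eL := HomologicalComplex.singleObjXSelf (ComplexShape.up ℤ) n L
  refine ⟨X.cx, X.incl, X.desc, X.incl_desc, fun i hi => X.isIso_incl_f i (hz i hi), X.mono_incl_f,
    ⟨biprod.mapIso (Iso.refl _) eL⟩, exactGE_of_iso (cxIso R X) _ n ?_⟩
  rw [cxIso_desc]
  intro i hi
  rcases hi.lt_or_eq with hi | rfl
  · exact X'.exactAt_desc_of_isZero i (R.map_isZero (hz _ (by omega))) (h i (by omega))
  · have hm : Mono (HomologicalComplex.homologyMap X'.toCone (n + 1)) :=
      ⟨fun _ _ _ => ((HomologicalComplex.ExactAt.of_isZero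
        (R.map_isZero (hz (n + 1) (by omega)))).isZero_homology).eq_of_tgt _ _⟩
    refine X'.exactAt_desc (n - 1) n (by omega) ?_ hm
    let Q := (HomologicalComplex.single C (ComplexShape.up ℤ) n).obj L
    let m : L ⟶ Q.homology n := Q.liftCycles eL.inv (n + 1) (by simp)
      (((hz (n + 1) (by omega))).eq_of_tgt _ _) ≫ Q.homologyπ n
    have he : m ≫ HomologicalComplex.homologyMap x n = v₀ ≫ (mappingCone u).homologyπ n := by
      simp only [m, Category.assoc, HomologicalComplex.homologyπ_naturality]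
      rw [← Category.assoc, HomologicalComplex.liftCycles_comp_cyclesMap]
      congr 1
      rw [← cancel_mono ((mappingCone u).iCycles n)]
      simp [x, c, eL]
    rw [toCone_ofHom, HomologicalComplex.homologyMap_comp]
    haveI := epi_map_homology R x n
      (@epi_of_epi_fac _ _ _ _ _ (R.map m) _ _ hv₀ ((R.map_comp _ _).symm.trans (congrArg R.map he)))
    infer_instance

variable {P : ObjectProperty C}

/-- A stage of the construction. -/
structure Stage (P : ObjectProperty C) (F : CochainComplex C ℤ) (m : ℤ) where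
  /-- the complex -/
  cx : CochainComplex C ℤ
  /-- the map -/
  map : cx ⟶ F
  strict : IsStrictPCAll P cx
  exact : ExactGE ((rC R).map map) m

/-- The hypothesis of the construction. -/
def Good (P : ObjectProperty C) (F : CochainComplex C ℤ) : Prop :=
  ∀ (k : ℤ) (G : CochainComplex C ℤ) (u : G ⟶ F), IsStrictPCAll P G →
    ExactGE ((rC R).map u) (k + 1) →
    ∃ (L : C) (v₀ : L ⟶ (mappingCone u).cycles k), P L ∧
      Epi (R.map (v₀ ≫ (mappingCone u).homologyπ k))

variable [P.IsClosedUnderIsomorphisms] (hsum : ∀ X Y : C, P X → P Y → P (X ⨯ Y))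
  (hF : Good R P F) {m : ℤ}

include hsum hF in
lemma exists_next (S : Stage R P F m) :
    ∃ (S' : Stage R P F (m - 1)) (v : S.cx ⟶ S'.cx), v ≫ S'.map = S.map ∧
      (∀ i, i ≠ m - 1 → IsIso (v.f i)) := by
  have h : ExactGE ((rC R).map S.map) (m - 1 + 1) := by simpa using S.exact
  obtain ⟨L, v₀, hL, hv₀⟩ := hF (m - 1) S.cx S.map S.strict h
  obtain ⟨E', v, u', hf, hiso, -, ⟨e⟩, h'⟩ := step R (m - 1) S.map h L v₀ hv₀
  obtain ⟨⟨b, hb⟩, hP⟩ := S.strict
  refine ⟨⟨E', u', ⟨⟨max b (m - 1), fun i hi => ?_⟩, fun i => ?_⟩, h'⟩, v, hf, hiso⟩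
  · have := hiso i (by omega)
    exact (hb i (by omega)).of_iso (asIso (v.f i)).symm
  · by_cases him : i = m - 1
    · subst him
      exact P.prop_of_iso e.symm (biprod_mem hsum (hP _) hL)
    · have := hiso i him
      exact P.prop_of_iso (asIso (v.f i)) (hP i)

variable (S₀ : Stage R P F m)

/-- The stages. -/
noncomputable def stage : ∀ k : ℕ, Stage R P F (m - k)
  | 0 => ⟨S₀.cx, S₀.map, S₀.strict, by simpa using S₀.exact⟩
  | k + 1 =>
    let S' := (exists_next R hsum hF (stage k)).choose
    ⟨S'.cx, S'.map, S'.strict, fun i hi => S'.exact i (by omega)⟩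

/-- The transition maps. -/
noncomputable def trans (k : ℕ) :
    (stage R hsum hF S₀ k).cx ⟶ (stage R hsum hF S₀ (k + 1)).cx :=
  (exists_next R hsum hF (stage R hsum hF S₀ k)).choose_spec.choose

lemma trans_spec (k : ℕ) :
    trans R hsum hF S₀ k ≫ (stage R hsum hF S₀ (k + 1)).map = (stage R hsum hF S₀ k).map ∧
      (∀ i, i ≠ m - k - 1 → IsIso ((trans R hsum hF S₀ k).f i)) :=
  (exists_next R hsum hF (stage R hsum hF S₀ k)).choose_spec.choose_spec

/-- The sequence as a functor. -/
noncomputable abbrev seq : ℕ ⥤ CochainComplex C ℤ := Functor.ofSequence (trans R hsum hF S₀)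

/-- The map of a stage, with source an object of the sequence. -/
noncomputable def mp (k : ℕ) : (seq R hsum hF S₀).obj k ⟶ F := (stage R hsum hF S₀ k).map

lemma seq_map_props (a b : ℕ) (h : a ≤ b) :
    (∀ i : ℤ, m - a ≤ i → IsIso (((seq R hsum hF S₀).map (homOfLE h)).f i)) ∧
    (seq R hsum hF S₀).map (homOfLE h) ≫ mp R hsum hF S₀ b = mp R hsum hF S₀ a := by
  induction b, h using Nat.le_induction with
  | base =>
    rw [show (homOfLE (le_refl a) : a ⟶ a) = 𝟙 a from Subsingleton.elim _ _, CategoryTheory.Functor.map_id]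
    exact ⟨fun i _ => by rw [HomologicalComplex.id_f]; infer_instance, Category.id_comp _⟩
  | succ b hb ih =>
    obtain ⟨hf, hi⟩ := trans_spec R hsum hF S₀ b
    obtain ⟨ihi, ihf⟩ := ih
    have e : (seq R hsum hF S₀).map (homOfLE (hb.trans (Nat.le_add_right b 1))) =
        (seq R hsum hF S₀).map (homOfLE hb) ≫ trans R hsum hF S₀ b := by
      rw [← Functor.ofSequence_map_homOfLE_succ (trans R hsum hF S₀) b]
      exact (congrArg (seq R hsum hF S₀).map (homOfLE_comp hb (Nat.le_add_right b 1)).symm).trans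
        ((seq R hsum hF S₀).map_comp _ _)
    refine ⟨fun i hia => ?_, ?_⟩
    · rw [e, HomologicalComplex.comp_f]
      exact @IsIso.comp_isIso _ _ _ _ _ _ _ (ihi i hia) (hi i (by omega))
    · rw [e]
      exact (Category.assoc _ _ _).trans
        ((congrArg ((seq R hsum hF S₀).map (homOfLE hb) ≫ ·) hf).trans ihf)

lemma eventually (i : ℤ) (a : ℕ) (h : m - a ≤ i) :
    ((seq R hsum hF S₀) ⋙ HomologicalComplex.eval C _ i).IsEventuallyConstantFrom a :=
  fun b φ => (seq_map_props R hsum hF S₀ a b (leOfHom φ)).1 i h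

instance hasColimitEval (i : ℤ) :
    HasColimit ((seq R hsum hF S₀) ⋙ HomologicalComplex.eval C _ i) :=
  (eventually R hsum hF S₀ i (m - i).toNat (by omega)).hasColimit

/-- The colimit complex. -/
noncomputable def lim : CochainComplex C ℤ := colimit (seq R hsum hF S₀)

/-- The inclusion of a stage. -/
noncomputable def incl (k : ℕ) : (stage R hsum hF S₀ k).cx ⟶ lim R hsum hF S₀ :=
  colimit.ι (seq R hsum hF S₀) k

lemma isIso_incl_f (k : ℕ) (i : ℤ) (h : m - k ≤ i) : IsIso ((incl R hsum hF S₀ k).f i) :=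
  (eventually R hsum hF S₀ i k h).isIso_ι_of_isColimit
    (isColimitOfPreserves (HomologicalComplex.eval C _ i) (colimit.isColimit _))

/-- The map to the target. -/
noncomputable def limMap : lim R hsum hF S₀ ⟶ F :=
  colimit.desc (seq R hsum hF S₀)
    ⟨F, { app := fun k => mp R hsum hF S₀ k
          naturality := fun a b φ => by
            dsimp
            rw [Category.comp_id]
            exact (seq_map_props R hsum hF S₀ a b (leOfHom φ)).2 }⟩

@[reassoc]
lemma incl_limMap (k : ℕ) :
    incl R hsum hF S₀ k ≫ limMap R hsum hF S₀ = (stage R hsum hF S₀ k).map :=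
  colimit.ι_desc _ _

lemma quasiIso_limMap : QuasiIso ((rC R).map (limMap R hsum hF S₀)) := by
  refine ⟨fun i => ?_⟩
  obtain ⟨k, hk⟩ : ∃ k : ℕ, m - k ≤ i - 2 := ⟨(m - i + 2).toNat, by omega⟩
  have h₁ : QuasiIsoAt ((rC R).map (incl R hsum hF S₀ k)) i := by
    rw [quasiIsoAt_iff' _ (i - 1) i (i + 1) (by simp) (by simp)]
    have h₀ := isIso_incl_f R hsum hF S₀ k (i - 1) (by omega)
    have h₂ := isIso_incl_f R hsum hF S₀ k i (by omega)
    have h₃ := isIso_incl_f R hsum hF S₀ k (i + 1) (by omega)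
    let φ := (HomologicalComplex.shortComplexFunctor' D (ComplexShape.up ℤ) (i - 1) i (i + 1)).map
      ((rC R).map (incl R hsum hF S₀ k))
    have : IsIso φ.τ₁ := inferInstanceAs (IsIso (R.map ((incl R hsum hF S₀ k).f (i - 1))))
    have : IsIso φ.τ₂ := inferInstanceAs (IsIso (R.map ((incl R hsum hF S₀ k).f i)))
    have : IsIso φ.τ₃ := inferInstanceAs (IsIso (R.map ((incl R hsum hF S₀ k).f (i + 1))))
    exact ShortComplex.quasiIso_of_epi_of_isIso_of_mono φ
  have h₂ : QuasiIsoAt ((rC R).map (incl R hsum hF S₀ k) ≫ (rC R).map (limMap R hsum hF S₀)) i := by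
    rw [← (rC R).map_comp, incl_limMap, quasiIsoAt_iff_isIso_homologyMap]
    exact ((exactGE_iff _ _).1 (stage R hsum hF S₀ k).exact).2 i (by omega)
  exact quasiIsoAt_of_comp_left ((rC R).map (incl R hsum hF S₀ k))
    ((rC R).map (limMap R hsum hF S₀)) i

lemma strict_lim : IsStrictPCAll P (lim R hsum hF S₀) := by
  obtain ⟨⟨b, hb⟩, -⟩ := (stage R hsum hF S₀ 0).strict
  refine ⟨⟨max b m, fun i hi => ?_⟩, fun i => ?_⟩
  · have := isIso_incl_f R hsum hF S₀ 0 i (by simp; omega)
    exact (hb i (by omega)).of_iso (asIso ((incl R hsum hF S₀ 0).f i)).symm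
  · have := isIso_incl_f R hsum hF S₀ (m - i).toNat i (by omega)
    exact P.prop_of_iso (asIso ((incl R hsum hF S₀ (m - i).toNat).f i))
      ((stage R hsum hF S₀ _).strict.2 i)

open ZeroObject in
include hsum hF in
/-- A complex of `P`s with a map inducing a quasi-isomorphism after `R`. -/
theorem exists_resolution [P.ContainsZero] (b : ℤ)
    (hb : ∀ i, b ≤ i → ((rC R).obj F).ExactAt i) :
    ∃ (G : CochainComplex C ℤ) (s : G ⟶ F), IsStrictPCAll P G ∧ QuasiIso ((rC R).map s) := by
  let Z : CochainComplex C ℤ :=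
    CochainComplex.of (fun _ => (0 : C)) (fun _ => 0) (by simp)
  have hZ : ∀ i, IsZero (Z.X i) := fun i => isZero_zero C
  let S₀ : Stage R P F b := ⟨Z, 0, ⟨⟨0, fun i _ => hZ i⟩, fun i => mem_of_isZero (hZ i)⟩,
    exactGE_zero _ (fun i => R.map_isZero (hZ i)) _ hb⟩
  exact ⟨_, limMap R hsum hF S₀, strict_lim R hsum hF S₀, quasiIso_limMap R hsum hF S₀⟩

end Groth.Agent.H56.ExtOpen.Gen
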