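import Groth.Prelude.Def_CohB1
import Groth.Agent.Lib.CohBasics.Affine
import Groth.Agent.Lib.Perfect.TildeFT
import Groth.Agent.Lib.DualSch.Trivial

/-!
# Generators over a quasi-compact open of an affine scheme
-/

set_option autoImplicit false
set_option linter.style.haveILetI false

universe u

open CategoryTheory Limits AlgebraicGeometry TopologicalSpace

namespace Groth.Agent.H56.ExtOpen.Generators

open Groth.Agent.Lib Groth.Agent.Lib.Modules

variable {R : CommRingCat.{u}}

/-- Finitely many global sections spanning the stalks at the points of a quasi-compact open. -/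
theorem exists_sections {V : Scheme.{u}} (j : V ⟶ Spec R) [IsOpenImmersion j] [CompactSpace V]
    (M : (Spec R).Modules) [M.IsQuasicoherent] (hFT : CohB1.IsFT (M.restrict j)) :
    ∃ S : Finset Γ(M, ⊤), ∀ v : V, Submodule.span ((Spec R).presheaf.stalk (j v))
      (M.presheaf.germ ⊤ (j v) trivial '' (S : Set Γ(M, ⊤))) = ⊤ := by
  haveI : SheafOfModules.IsFiniteType (R := V.ringCatSheaf) (M.restrict j) := hFT
  have hU := isAffineOpen_top (Spec R)
  have loc : ∀ x : V, ∃ f : Γ(Spec R, ⊤), j x ∈ (Spec R).basicOpen f ∧ ∃ S : Finset Γ(M, ⊤),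
      ∀ v : V, j v ∈ (Spec R).basicOpen f →
        Submodule.span ((Spec R).presheaf.stalk (j v))
          (M.presheaf.germ ⊤ (j v) trivial '' (S : Set Γ(M, ⊤))) = ⊤ := by
    intro x
    obtain ⟨W, hxW, n, s, hs⟩ := GenStalk.exists_span_stalk_of_isFiniteType (M.restrict j) x
    have hxW' : j x ∈ j ''ᵁ W := by simpa using hxW
    obtain ⟨f, hfW, hxf⟩ := hU.exists_basicOpen_le (V := j ''ᵁ W) ⟨j x, hxW'⟩ trivial
    choose m t ht using fun i => (QCoh.Localizing.localizes_of_isAffineOpen M hU f).ext'
      (QCoh.Localizing.res M hfW (s i))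
    classical
    refine ⟨f, hxf, Finset.univ.image t, fun v hvf => ?_⟩
    have hvW : v ∈ W := by simpa using hfW hvf
    let y := j v
    let P := Submodule.span ((Spec R).presheaf.stalk y)
      (M.presheaf.germ ⊤ y trivial '' ((Finset.univ.image t : Finset _) : Set Γ(M, ⊤)))
    have hu (i) : IsUnit ((Spec R).presheaf.germ ((Spec R).basicOpen f) y hvf
        (QCoh.Localizing.resR ((Spec R).basicOpen_le f) f) ^ m i) := by
      refine IsUnit.pow _ ?_
      rw [show (Spec R).presheaf.germ ((Spec R).basicOpen f) y hvf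
          (QCoh.Localizing.resR ((Spec R).basicOpen_le f) f) = (Spec R).presheaf.germ ⊤ y trivial f
        from TopCat.Presheaf.germ_res_apply _ _ _ hvf f]
      exact ((Spec R).mem_basicOpen f y trivial).mp hvf
    have hgen (i) : M.presheaf.germ (j ''ᵁ W) y (hfW hvf) (s i) ∈ P := by
      refine (Submodule.smul_mem_iff_of_isUnit _ (hu i)).mp ?_
      have h1 : M.presheaf.germ ⊤ y trivial (t i) =
          (Spec R).presheaf.germ ((Spec R).basicOpen f) y hvf
            (QCoh.Localizing.resR ((Spec R).basicOpen_le f) f) ^ m i •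
              M.presheaf.germ (j ''ᵁ W) y (hfW hvf) (s i) := by
        rw [← TopCat.Presheaf.germ_res_apply M.presheaf (homOfLE ((Spec R).basicOpen_le f)) y hvf (t i)]
        erw [ht i]
        rw [StalkModule.germ_smul, map_pow]
        congr 1
        exact TopCat.Presheaf.germ_res_apply _ _ _ hvf _
      rw [← h1]
      exact Submodule.subset_span ⟨t i, by simp, rfl⟩
    suffices key : ∀ z ∈ Submodule.span (V.presheaf.stalk v)
        (Set.range fun i => (M.restrict j).presheaf.germ W v hvW (s i)),
        StalkRestrict.restrictStalkAddEquiv j M v z ∈ P by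
      refine eq_top_iff.2 fun w _ => ?_
      obtain ⟨z, rfl⟩ := (StalkRestrict.restrictStalkAddEquiv j M v).surjective w
      exact key z (hs v hvW ▸ trivial)
    intro z hz
    induction hz using Submodule.span_induction with
    | mem z hz =>
      obtain ⟨i, rfl⟩ := hz
      rw [StalkRestrict.restrictStalkAddEquiv_germ]
      exact hgen i
    | zero => rw [map_zero]; exact P.zero_mem
    | add _ _ _ _ h₁ h₂ => rw [map_add]; exact P.add_mem h₁ h₂
    | smul r z _ h =>
      obtain ⟨a, rfl⟩ := (ConcreteCategory.bijective_of_isIso (j.stalkMap v)).surjective r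
      rw [StalkRestrict.restrictStalkAddEquiv_smul]
      exact P.smul_mem _ h
  choose f hf S hS using loc
  obtain ⟨F, hF⟩ := CompactSpace.isCompact_univ.elim_finite_subcover
    (fun x : V => ((j ⁻¹ᵁ (Spec R).basicOpen (f x) : V.Opens) : Set V))
    (fun x => (j ⁻¹ᵁ (Spec R).basicOpen (f x)).2) fun y _ => Set.mem_iUnion.mpr ⟨y, hf y⟩
  classical
  refine ⟨F.biUnion S, fun v => ?_⟩
  obtain ⟨x, hxF, hvx⟩ := Set.mem_iUnion₂.mp (hF (Set.mem_univ v))
  rw [eq_top_iff, ← hS x v hvx]
  refine Submodule.span_mono (Set.image_mono fun s hs => ?_)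
  exact Finset.mem_biUnion.mpr ⟨x, hxF, hs⟩

/-- Finitely many elements generating `H~` on a quasi-compact open. -/
theorem exists_elements {V : Scheme.{u}} (j : V ⟶ Spec R) [IsOpenImmersion j] [CompactSpace V]
    (H : ModuleCat.{u} R) (hFT : CohB1.IsFT ((tilde H).restrict j)) :
    ∃ (n : ℕ) (h : Fin n → H), ∀ (C : ModuleCat.{u} R) (p : H ⟶ C), Function.Surjective p →
      (∀ i, p (h i) = 0) → IsZero ((Scheme.Modules.restrictFunctor j).obj (tilde C)) := by
  classical
  obtain ⟨S, hS⟩ := exists_sections j (tilde H) hFT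
  let e := (Perfect.TildeFT.topEquiv H)
  refine ⟨S.card, fun i => e.symm (S.equivFin.symm i).1, fun C p hp hh => ?_⟩
  have hp' : Epi p := (ModuleCat.epi_iff_surjective p).2 hp
  haveI : PreservesColimitsOfSize.{0, 0} (tilde.functor R) :=
    (tilde.adjunction (R := R)).leftAdjoint_preservesColimits
  haveI : Epi (tilde.map p) := inferInstanceAs (Epi ((tilde.functor R).map p))
  refine Modules.Support.support_eq_empty_iff.1 (Set.eq_empty_iff_forall_notMem.2 fun v hv => ?_)
  refine hv ?_
  suffices h : Subsingleton ((tilde C).presheaf.stalk (j v)) from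
    (StalkRestrict.restrictStalkAddEquiv j (tilde C) v).toEquiv.subsingleton
  have hz : ∀ w, StalkModule.stalkMapₗ (tilde.map p) (j v) w = 0 := fun w => by
    have hw : w ∈ Submodule.span ((Spec R).presheaf.stalk (j v))
        ((tilde H).presheaf.germ ⊤ (j v) trivial '' (S : Set Γ(tilde H, ⊤))) := hS v ▸ trivial
    induction hw using Submodule.span_induction with
    | mem w hw =>
      obtain ⟨s, hs, rfl⟩ := hw
      rw [StalkModule.stalkMapₗ_germ]
      obtain ⟨m, rfl⟩ := e.surjective s
      have hm : p m = 0 := by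
        simpa using hh (S.equivFin ⟨e m, hs⟩)
      have hn : (tilde.map p).app ⊤ (e m) = Perfect.TildeFT.topEquiv C (p m) :=
        ConcreteCategory.congr_hom (tilde.toOpen_map_app p ⊤) m
      rw [hn, hm, map_zero, map_zero]
    | zero => exact map_zero _
    | add _ _ _ _ h₁ h₂ => rw [map_add, h₁, h₂, add_zero]
    | smul r _ _ h => rw [map_smul, h, smul_zero]
  refine ⟨fun a b => ?_⟩
  obtain ⟨a', rfl⟩ := (Modules.Stalk.epi_iff_stalk_surjective (tilde.map p)).1 inferInstance (j v) a
  obtain ⟨b', rfl⟩ := (Modules.Stalk.epi_iff_stalk_surjective (tilde.map p)).1 inferInstance (j v) b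
  exact (hz a').trans (hz b').symm

end Groth.Agent.H56.ExtOpen.Generators
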