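import Groth.Agent.H56.ExtOpen.Gen
import Groth.Agent.H56.ExtOpen.Generators
import Groth.Agent.H56.ResPerf.AddLRes
import Groth.Agent.H56.RelPC.Transport
import Groth.Agent.Lib.QCoh.Tilde
import Groth.Agent.Lib.DerivedOX.TildeEquiv
import Groth.Agent.Lib.DerivedOX.OpenImm
import Groth.Agent.Lib.DerivedOX.RpushQCoh
import Groth.Agent.Lib.DerivedOX.Exists
import Groth.Agent.Lib.TensorMod.FPConv

/-!
# Finite free complexes extending pseudo-coherent objects of a quasi-compact open
-/

set_option autoImplicit false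
set_option linter.style.haveILetI false

universe u

open CategoryTheory Limits AlgebraicGeometry
open scoped ZeroObject

attribute [local instance] HasDerivedCategory.standard

namespace Groth.Agent.H56.ExtOpen

open Groth.Agent.Lib Groth.Agent.Lib.DerivedOX
open Groth.Agent.Lib.Perfect.Basic Groth.Agent.Lib.Perfect.PseudoCoh Groth.Agent.Lib.PCoh.Cone

variable {R : CommRingCat.{u}} {V : Scheme.{u}} (j : V ⟶ Spec R) [IsOpenImmersion j]

instance additive_tilde : (tilde.functor R).Additive :=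
  (tilde.adjunction (R := R)).left_adjoint_additive

instance finiteColimits_tilde : PreservesFiniteColimits (tilde.functor R) :=
  haveI : PreservesColimitsOfSize.{0, 0} (tilde.functor R) :=
    (tilde.adjunction (R := R)).leftAdjoint_preservesColimits
  PreservesColimitsOfSize.preservesFiniteColimits _

instance finiteLimits_tilde : PreservesFiniteLimits (tilde.functor R) :=
  QCoh.Tilde.tildeFunctor_preservesFiniteLimits

/-- `M ↦ M~|_V`. -/
noncomputable abbrev Φ : ModuleCat.{u} R ⥤ V.Modules :=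
  tilde.functor R ⋙ Scheme.Modules.restrictFunctor j

/-- Finite free modules. -/
abbrev Free : ObjectProperty (ModuleCat.{u} R) :=
  fun M => ∃ n : ℕ, Nonempty (M ≅ ModuleCat.of R (Fin n → R))

instance free_isClosedUnderIso : (Free (R := R)).IsClosedUnderIsomorphisms :=
  ⟨fun e ⟨n, ⟨a⟩⟩ => ⟨n, ⟨e.symm ≪≫ a⟩⟩⟩

instance free_containsZero : (Free (R := R)).ContainsZero :=
  ⟨ModuleCat.of R (Fin 0 → R), ModuleCat.isZero_of_subsingleton _, 0, ⟨Iso.refl _⟩⟩

theorem free_prod (A B : ModuleCat.{u} R) (hA : Free A) (hB : Free B) : Free (A ⨯ B) := by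
  obtain ⟨m, ⟨a⟩⟩ := hA
  obtain ⟨n, ⟨b⟩⟩ := hB
  exact ⟨m + n, ⟨(biprod.isoProd A B).symm ≪≫ ModuleCat.biprodIsoProd A B ≪≫
    ((LinearEquiv.prodCongr a.toLinearEquiv b.toLinearEquiv).trans
      ((LinearEquiv.sumArrowLequivProdArrow (Fin m) (Fin n) R R).symm.trans
        (LinearEquiv.funCongrLeft R R finSumFinEquiv.symm))).toModuleIso⟩⟩

theorem isFinLocFree_Φ {M : ModuleCat.{u} R} (h : Free M) : FlatMod.IsFinLocFree ((Φ j).obj M) := by
  obtain ⟨n, ⟨e⟩⟩ := h
  exact TensorMod.LocFree.isFinLocFree_restrict j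
    (TensorMod.LocFree.of_iso ((tilde.functor R).mapIso e.symm ≪≫ Iso.refl _)
      (TensorMod.LocFree.of_iso (Kaehler.LocFree.tildeFreeIso (R := R) (M := ModuleCat.of R (Fin n → R))
        (Pi.basisFun R (Fin n))).symm
        fun x => let ⟨U, hx, hi⟩ := TensorMod.LocFree.isFinLocFree_freeMod (Spec R) n x
          ⟨U, n, hx, hi⟩))

/-- A pseudo-coherent object of a quasi-compact scheme is bounded above. -/
theorem exists_isLE {X : Scheme.{u}} [CompactSpace X] {m : ℤ} {E : DCoh.D X}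
    (hE : ∀ x, PCAt m E x) : ∃ b : ℤ, E.IsLE b := by
  choose W b hW hb using fun x => RelPC.exists_bound_of_pcAt (hE x)
  obtain ⟨t, ht⟩ := CompactSpace.isCompact_univ.elim_finite_subcover (fun x : X => (W x : Set X))
    (fun x => (W x).2) (fun x _ => Set.mem_iUnion.2 ⟨x, hW x⟩)
  obtain ⟨B, hB⟩ := (t.finite_toSet.image b).bddAbove
  refine ⟨B, (DerivedCategory.isLE_iff E B).2 fun i hi => ?_⟩
  refine Modules.Local.isZero_of_restrict (fun x : t => W x.1) ?_ fun x => hb x.1 i ?_
  · refine eq_top_iff.2 fun z _ => ?_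
    obtain ⟨x, hxt, hzx⟩ := Set.mem_iUnion₂.1 (ht (Set.mem_univ z))
    exact TopologicalSpace.Opens.mem_iSup.2 ⟨⟨x, hxt⟩, hzx⟩
  · have := hB ⟨x.1, x.2, rfl⟩
    omega

/-- Every pseudo-coherent object on `V` comes from a complex of modules. -/
theorem exists_model [CompactSpace V] (E : DCoh.D V) (hE : ∀ m : ℤ, DCoh.IsPseudoCoherentD m E) :
    ∃ A : CochainComplex (ModuleCat.{u} R) ℤ,
      Nonempty (DCoh.toD V ((Gen.rC (Φ j)).obj A) ≅ E) := by
  haveI := Exists.hasRpush j
  haveI : QuasiCompact j := (quasiCompact_iff_compactSpace j).2 inferInstance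
  obtain ⟨M, ⟨e⟩⟩ := TildeEquiv.exists_preimage R ((DCoh.Rpush j).obj E)
    (RpushQCoh.isQCohD_Rpush j E (ResPerf.AddLRes.isQCohD_of_pc hE))
  let A := DerivedCategory.Q.objPreimage M
  refine ⟨A, ⟨?_⟩⟩
  let F := ((tilde.functor R).mapHomologicalComplex (ComplexShape.up ℤ)).obj A
  change DCoh.toD V ((rC j).obj F) ≅ E
  exact (RDQ j F).symm ≪≫ (RD j).mapIso (((tilde.functor R).mapDerivedCategoryFactors.app A).symm ≪≫
    (DCoh.tildeD R).mapIso (DerivedCategory.Q.objObjPreimageIso M) ≪≫ e) ≪≫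
      (OpenImm.counitIso j).app E

/-- Strictly finite free complexes give pseudo-coherent ones. -/
theorem pcAt_strict {G : CochainComplex (ModuleCat.{u} R) ℤ}
    (hG : _root_.PCoh.IsStrictPCAll (Free (R := R)) G) (k : ℤ) (x : V) :
    PCAt k (DCoh.toD V ((Gen.rC (Φ j)).obj G)) x := by
  obtain ⟨⟨c, hc⟩, hGP⟩ := hG
  let G' := (Gen.rC (Φ j)).obj G
  let T := Perfect.Stupid.trunc G' k
  have hT : DCoh.IsStrictlyPerfect T := ⟨⟨k, c, fun i hi => by
      rcases hi with hi | hi
      · exact Perfect.Stupid.isZero_trunc _ _ i hi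
      · haveI : Mono ((Perfect.Stupid.ι G' k).f i) := inferInstanceAs (Mono (kernel.ι _))
        exact IsZero.of_mono ((Perfect.Stupid.ι G' k).f i) ((Φ j).map_isZero (hc i hi))⟩, fun i => by
      by_cases hi : k ≤ i
      · haveI := Perfect.Stupid.isIso_ι G' k i hi
        exact TensorMod.LocFree.of_iso (asIso ((Perfect.Stupid.ι G' k).f i)).symm
          (isFinLocFree_Φ j (hGP i))
      · exact Perfect.Stupid.isFinLocFree_isZero (Perfect.Stupid.isZero_trunc _ _ i (by omega))⟩
  exact ⟨V, 𝟙 V, inferInstance, x, (rC (𝟙 V)).obj T,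
      (RDQ (𝟙 V) T).inv ≫ (RD (𝟙 V)).map (DerivedCategory.Q.map (Perfect.Stupid.ι G' k)),
      by simp, isStrictlyPerfect_map _ hT,
      (Perfect.Ascent.Good.of_isIso _ _).comp (good_restrict _ (Perfect.Stupid.good_ι _ _))⟩

theorem good [CompactSpace V] (A : CochainComplex (ModuleCat.{u} R) ℤ)
    (hA : ∀ m x, PCAt m (DCoh.toD V ((Gen.rC (Φ j)).obj A)) x) :
    Gen.Good (Φ j) (Free (R := R)) A := by
  intro k G u hG hex
  let Ru := (Gen.rC (Φ j)).map u
  let C := CochainComplex.mappingCone Ru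
  let eC : (Gen.rC (Φ j)).obj (CochainComplex.mappingCone u) ≅ C :=
    CochainComplex.mappingCone.mapHomologicalComplexIso u (Φ j)
  let H := (CochainComplex.mappingCone u).homology k
  let eD : DCoh.HD (DCoh.toD V C) k ≅ (Φ j).obj H :=
    (DerivedCategory.homologyFunctorFactors V.Modules k).app C ≪≫
      (HomologicalComplex.homologyFunctor V.Modules (ComplexShape.up ℤ) k).mapIso eC.symm ≪≫
      ((CochainComplex.mappingCone u).sc k).mapHomologyIso (Φ j)
  have hC : ∀ x, PCAt k (DCoh.toD V C) x := fun x =>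
    pcAt₃ (DerivedCategory.mappingCone_triangle_distinguished Ru) (pcAt_strict j hG (k + 1) x) (hA k x)
  have hft : CohB1.IsFT ((Φ j).obj H) := by
    have h := Perfect.Top.isFT_top hC fun i hi =>
      (((HomologicalComplex.exactAt_iff_isZero_homology _ i).1 (hex i (by omega)))).of_iso
        ((DerivedCategory.homologyFunctorFactors V.Modules i).app C)
    exact @Modules.SupportOps.isFT_of_iso V _ _ eD h
  obtain ⟨n, h, hh⟩ := Generators.exists_elements j H hft
  let Z := (CochainComplex.mappingCone u).cycles k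
  let π := (CochainComplex.mappingCone u).homologyπ k
  choose z hz using fun i => (ModuleCat.epi_iff_surjective π).1 inferInstance (h i)
  let v₀ : ModuleCat.of R (Fin n → R) ⟶ Z := ModuleCat.ofHom ((Pi.basisFun R (Fin n)).constr R z)
  refine ⟨ModuleCat.of R (Fin n → R), v₀, ⟨n, ⟨Iso.refl _⟩⟩, ?_⟩
  let w := v₀ ≫ π
  have h0 : IsZero ((Φ j).obj (cokernel w)) :=
    hh (cokernel w) (cokernel.π w) ((ModuleCat.epi_iff_surjective _).1 inferInstance) fun i => by
      have hv : v₀ (Pi.basisFun R (Fin n) i) = z i := (Pi.basisFun R (Fin n)).constr_basis R z i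
      have := ConcreteCategory.congr_hom (cokernel.condition w) (Pi.basisFun R (Fin n) i)
      change cokernel.π w (π (v₀ (Pi.basisFun R (Fin n) i))) = 0 at this
      rwa [hv, hz] at this
  exact Preadditive.epi_of_isZero_cokernel _ (h0.of_iso (PreservesCokernel.iso (Φ j) w).symm)

/-- Finite free complexes on `Spec R` extending `E`. -/
theorem exists_free [CompactSpace V] (E : DCoh.D V) (hE : ∀ m : ℤ, DCoh.IsPseudoCoherentD m E) :
    ∃ G : CochainComplex (ModuleCat.{u} R) ℤ, _root_.PCoh.IsStrictPCAll (Free (R := R)) G ∧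
      Nonempty (DCoh.toD V ((Gen.rC (Φ j)).obj G) ≅ E) := by
  obtain ⟨A, ⟨e⟩⟩ := exists_model j E hE
  have hpc : ∀ m x, PCAt m (DCoh.toD V ((Gen.rC (Φ j)).obj A)) x := fun m x =>
    ((iff_forall m E).1 (hE m) x).of_iso e.symm
  obtain ⟨b, hb⟩ := exists_isLE (hpc 0)
  obtain ⟨G, s, hG, hs⟩ := Gen.exists_resolution (Φ j) free_prod (good j A hpc) (b + 1) fun i hi =>
    (HomologicalComplex.exactAt_iff_isZero_homology _ i).2
      ((DerivedCategory.isZero_of_isLE _ b i (by omega)).of_iso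
        ((DerivedCategory.homologyFunctorFactors V.Modules i).app _).symm)
  exact ⟨G, hG, ⟨asIso (DerivedCategory.Q.map ((Gen.rC (Φ j)).map s)) ≪≫ e⟩⟩

end Groth.Agent.H56.ExtOpen
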