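import Groth.Agent.Lib.Gen43.Extend
import Mathlib.Algebra.Homology.DerivedCategory.KProjective

/-!
# No morphisms from perfect objects to very negative objects on affine schemes
-/

set_option autoImplicit false
set_option linter.style.haveILetI false

universe u

open CategoryTheory Limits AlgebraicGeometry Pretriangulated

attribute [local instance] HasDerivedCategory.standard

namespace Groth.Agent.H56.ExtOpen.Vanish

open Groth.Agent.Lib Groth.Agent.Lib.DerivedOX Groth.Agent.Lib.Gen43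

/-- A projective module in degree `0` has no maps to objects in negative degrees. -/
theorem hom_single_eq_zero {R : Type u} [CommRing R] (P : ModuleCat.{u} R) [Projective P]
    (M : DerivedCategory (ModuleCat.{u} R)) (hM : M.IsLE (-1))
    (φ : (DerivedCategory.singleFunctor (ModuleCat.{u} R) 0).obj P ⟶ M) : φ = 0 := by
  haveI := hM
  obtain ⟨K, hK, ⟨e⟩⟩ := DerivedCategory.exists_iso_Q_obj_of_isLE M (-1)
  haveI := hK
  let S := (CochainComplex.singleFunctor (ModuleCat.{u} R) 0).obj P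
  haveI : ∀ n, Projective (S.X n) := fun n => by
    by_cases hn : n = 0
    · subst hn
      exact Projective.of_iso (HomologicalComplex.singleObjXSelf (ComplexShape.up ℤ) 0 P).symm inferInstance
    · exact ⟨fun _ _ => ⟨0, (HomologicalComplex.isZero_single_obj_X (ComplexShape.up ℤ) 0 P n hn).eq_of_src _ _⟩⟩
  haveI : S.IsKProjective := CochainComplex.isKProjective_of_projective S 0
  let a := ((DerivedCategory.singleFunctorIsoCompQ (ModuleCat.{u} R) 0).app P)
  let q := DerivedCategory.quotientCompQhIso (ModuleCat.{u} R)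
  obtain ⟨g, hg⟩ := (CochainComplex.IsKProjective.Qh_map_bijective S _).surjective
    ((q.app S).hom ≫ a.inv ≫ φ ≫ e.hom ≫ (q.app K).inv)
  obtain ⟨f, rfl⟩ := (HomotopyCategory.quotient _ _).map_surjective g
  have hf : f = 0 := HomologicalComplex.hom_ext _ _ fun n => by
    by_cases hn : n = 0
    · subst hn
      exact (CochainComplex.isZero_of_isStrictlyLE K (-1) 0 (by omega)).eq_of_tgt _ _
    · exact (HomologicalComplex.isZero_single_obj_X (ComplexShape.up ℤ) 0 P n hn).eq_of_src _ _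
  rw [hf] at hg
  simpa using hg.symm

variable (X : Scheme.{u}) [IsAffine X]

/-- `O` has no maps to quasi-coherent objects in negative degrees. -/
theorem hom_oneD_eq_zero (M : DCoh.D X) (hM : DCoh.IsQCohD M) (hle : M.IsLE (-1))
    (φ : CompactUnit.oneD X ⟶ M) : φ = 0 := by
  let R : CommRingCat.{u} := CommRingCat.of Γ(X, ⊤)
  obtain ⟨M₀, ⟨e⟩⟩ := TildeEquiv.exists_preimage R ((Affine.Φ X).obj M)
    (CompactUnit.isQCohD_restrictD _ hM)
  haveI := TildeEquiv.full R
  haveI : M₀.IsLE (-1) := (DerivedCategory.isLE_iff M₀ (-1)).2 fun i hi =>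
    Perfect.TildeD.isZero_of_tilde (IsZero.of_iso (IsZero.of_iso
      ((Scheme.Modules.restrictFunctor (Affine.spec X)).map_isZero
        ((DerivedCategory.isLE_iff M (-1)).1 hle i hi))
      (Perfect.Coherent.homologyIso (Affine.spec X) M i))
      ((Perfect.TildeD.HIso M₀ i).symm ≪≫ (DerivedCategory.homologyFunctor _ i).mapIso e))
  let s : (DCoh.tildeD R).obj ((DerivedCategory.singleFunctor (ModuleCat.{u} R) 0).obj
      (ModuleCat.of R R)) ≅ (Affine.Φ X).obj (CompactUnit.oneD X) :=
    Affine.sgIso' R 0 ≪≫ (CompactUnit.restrictOneIso (Affine.spec X)).symm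
  obtain ⟨ψ, hψ⟩ := (DCoh.tildeD R).map_surjective (s.hom ≫ (Affine.Φ X).map φ ≫ e.inv)
  rw [hom_single_eq_zero _ M₀ inferInstance ψ, Functor.map_zero] at hψ
  refine (Affine.Φ X).map_injective ?_
  rw [Functor.map_zero, ← cancel_mono e.inv, ← cancel_epi s.hom, zero_comp, comp_zero]
  exact hψ.symm

variable {X}

/-- Perfect objects have no maps to very negative quasi-coherent objects. -/
theorem exists_bound {P : DCoh.D X} (hP : DCoh.IsPerfect P) :
    ∃ c : ℤ, ∀ (M : DCoh.D X), DCoh.IsQCohD M → M.IsLE c → ∀ φ : P ⟶ M, φ = 0 := by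
  refine Affine.perfect_induction (fun P => ∃ c : ℤ, ∀ (M : DCoh.D X), DCoh.IsQCohD M → M.IsLE c →
    ∀ φ : P ⟶ M, φ = 0) (fun K hK => ⟨0, fun M _ _ φ => hK.eq_of_src _ _⟩) ?_ ?_ ?_ hP
  · rintro K L r ⟨c, hc⟩
    exact ⟨c, fun M hM hle φ => by
      have := congrArg (r.i ≫ ·) (hc M hM hle (r.r ≫ φ))
      simpa using this⟩
  · rintro T hT ⟨c₁, h₁⟩ ⟨c₃, h₃⟩
    refine ⟨min c₁ c₃, fun M hM hle φ => ?_⟩
    haveI := hle
    obtain ⟨ψ, hψ⟩ := Triangle.yoneda_exact₂ T hT φ
      (h₁ M hM (DerivedCategory.TStructure.t.isLE_of_le M (min c₁ c₃) c₁ (min_le_left _ _)) _)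
    rw [hψ, h₃ M hM (DerivedCategory.TStructure.t.isLE_of_le M (min c₁ c₃) c₃ (min_le_right _ _)) ψ,
      comp_zero]
  · intro n
    refine ⟨-1 - n, fun M hM hle φ => ?_⟩
    haveI := hle
    let a := (shiftFunctorCompIsoId (DCoh.D X) n (-n) (by omega)).app (CompactUnit.oneD X)
    haveI : (M⟦-n⟧).IsLE (-1) :=
      DerivedCategory.TStructure.t.isLE_shift M (-1 - n) (-n) (-1) (by omega)
    have h : (shiftFunctor (DCoh.D X) (-n)).map φ = 0 := by
      rw [← cancel_epi a.inv, comp_zero]
      exact hom_oneD_eq_zero X (M⟦-n⟧) (CompactUnit.qcD_shift M (-n) hM) inferInstance _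
    exact (shiftFunctor (DCoh.D X) (-n)).map_injective (by rw [h, Functor.map_zero])

/-- Perfect objects of a quasi-compact open have no maps to modules placed in very negative degrees. -/
theorem exists_bound_open (U : X.Opens) (hU : IsCompact (U : Set X)) {E : DCoh.D (U : Scheme.{u})}
    (hE : DCoh.IsPerfect E) :
    ∃ c : ℤ, ∀ (M : DCoh.D (U : Scheme.{u})), DCoh.IsQCohD M → M.IsLE c → ∀ φ : E ⟶ M, φ = 0 := by
  haveI := Exists.hasRpush U.ι
  haveI : QuasiCompact U.ι := (quasiCompact_iff_compactSpace U.ι).2 (isCompact_iff_compactSpace.1 hU)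
  haveI : CompactSpace (U : Scheme.{u}) := isCompact_iff_compactSpace.1 hU
  obtain ⟨P, hP, ⟨r⟩⟩ := Extend.retExt U hU E hE
  obtain ⟨c, hc⟩ := exists_bound hP
  obtain ⟨N, hN⟩ := RpushQCoh.exists_bound U.ι
  refine ⟨c - max N 1 + 1, fun M hM hle φ => ?_⟩
  haveI := hle
  let adj := OpenImm.restrictPushAdj U.ι
  have hz : ∀ ψ : P ⟶ (DCoh.Rpush U.ι).obj M, ψ = 0 := by
    refine hc _ (RpushQCoh.isQCohD_Rpush U.ι M hM) ?_
    let b := c - max N 1 + 1
    haveI : (M⟦b⟧).IsLE 0 := DerivedCategory.TStructure.t.isLE_shift M b b 0 (by omega)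
    refine (DerivedCategory.isLE_iff _ c).2 fun i hi => ?_
    exact (hN (M⟦b⟧) (CompactUnit.qcD_shift M b hM) inferInstance (i - b) (by omega)).of_iso
      (((DerivedCategory.homologyFunctor X.Modules 0).shiftIso b (i - b) i (by omega)).symm.app
          ((DCoh.Rpush U.ι).obj M) ≪≫
        (DerivedCategory.homologyFunctor X.Modules (i - b)).mapIso
          (((DCoh.Rpush U.ι).commShiftIso b).symm.app M))
  have h0 : r.r ≫ φ = 0 := (adj.homEquiv P M).injective ((hz _).trans (hz _).symm)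
  have := congrArg (r.i ≫ ·) h0
  simpa using this

end Groth.Agent.H56.ExtOpen.Vanish
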