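import Groth.Agent.H56.ExtOpen.Affine
import Groth.Agent.H56.ExtOpen.Vanish
import Groth.Agent.H56.ResPerf.Trunc
import Mathlib.Algebra.Homology.DerivedCategory.ShortExact

/-!
# Perfect objects of quasi-compact opens of affines extend after adding a shifted vector bundle
-/

set_option autoImplicit false
set_option linter.style.haveILetI false

universe u

open CategoryTheory Limits AlgebraicGeometry Pretriangulated

attribute [local instance] HasDerivedCategory.standard

namespace Groth.Agent.H56.ExtOpen.Split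

open Groth.Agent.Lib Groth.Agent.Lib.Perfect.Basic Groth.Agent.Lib.Perfect.PseudoCoh
open Groth.Agent.Lib.PCoh.Cone

variable {X : Scheme.{u}}

theorem isFinLocFree_freeMod' (n : ℕ) : FlatMod.IsFinLocFree (FlatMod.freeMod X n) := fun x =>
  let ⟨U, hx, hi⟩ := TensorMod.LocFree.isFinLocFree_freeMod X n x
  ⟨U, n, hx, hi⟩

/-- Bounded above complexes of locally free modules have strictly perfect stupid truncations. -/
theorem isStrictlyPerfect_trunc {G : CochainComplex X.Modules ℤ} {b : ℤ}
    (hb : ∀ i, b < i → IsZero (G.X i)) (hlf : ∀ i, FlatMod.IsFinLocFree (G.X i)) (n : ℤ) :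
    DCoh.IsStrictlyPerfect (Perfect.Stupid.trunc G n) :=
  ⟨⟨n, b, fun i hi => by
    rcases hi with hi | hi
    · exact Perfect.Stupid.isZero_trunc _ _ i hi
    · haveI : Mono ((Perfect.Stupid.ι G n).f i) := inferInstanceAs (Mono (kernel.ι _))
      exact IsZero.of_mono ((Perfect.Stupid.ι G n).f i) (hb i hi)⟩, fun i => by
    by_cases hi : n ≤ i
    · haveI := Perfect.Stupid.isIso_ι G n i hi
      exact TensorMod.LocFree.of_iso (asIso ((Perfect.Stupid.ι G n).f i)).symm (hlf i)
    · exact Perfect.Stupid.isFinLocFree_isZero (Perfect.Stupid.isZero_trunc _ _ i (by omega))⟩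

/-- The cokernel of a differential below the amplitude is locally free. -/
theorem isFinLocFree_cokernel_d {G : CochainComplex X.Modules ℤ} {b : ℤ}
    (hb : ∀ i, b < i → IsZero (G.X i)) (hlf : ∀ i, FlatMod.IsFinLocFree (G.X i)) {a c : ℤ}
    (hG : DerSch.HasTorAmplitude (𝟙 X) a c G) :
    FlatMod.IsFinLocFree (cokernel (G.d (a - 1) a)) := by
  let T := Perfect.Stupid.trunc G (a - 2)
  let φ := Perfect.Stupid.ι G (a - 2)
  obtain ⟨h1, -⟩ := Perfect.Stupid.good_ι G (a - 2)
  have hiso : ∀ i, a - 2 < i → IsIso (HomologicalComplex.homologyMap φ i) := fun i hi =>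
    (NatIso.isIso_map_iff (DerivedCategory.homologyFunctorFactors X.Modules i) φ).1 (h1 i hi)
  have hex : ExactGE φ (a - 1) := (exactGE_iff φ _).2
    ⟨by haveI := hiso (a - 1) (by omega); infer_instance, fun i hi => hiso i (by omega)⟩
  have h := ResPerf.isFinLocFree_coker φ (isStrictlyPerfect_trunc hb hlf (a - 2)) hG hex
  haveI := Perfect.Stupid.isIso_ι G (a - 2) (a - 1) (by omega)
  haveI := Perfect.Stupid.isIso_ι G (a - 2) a (by omega)
  exact TensorMod.LocFree.of_iso
    (cokernel.mapIso (T.d (a - 1) a) (G.d (a - 1) a) (asIso (φ.f (a - 1))) (asIso (φ.f a))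
      (φ.comm (a - 1) a).symm) h

variable [IsAffine X]

/-- A perfect object of a quasi-compact open of an affine scheme extends to a perfect complex after
adding a shift of a vector bundle. -/
theorem main (U : X.Opens) (hU : IsCompact (U : Set X)) (E : DCoh.D (U : Scheme.{u}))
    (hE : DCoh.IsPerfect E) [∀ (A B : DCoh.D (U : Scheme.{u})), HasBinaryBiproduct A B] :
    ∃ (r : ℤ) (F : (U : Scheme.{u}).Modules) (G : CochainComplex X.Modules ℤ),
      FlatMod.IsFinLocFree F ∧ DCoh.IsPerfect (DCoh.toD X G) ∧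
      Nonempty (DerivedCategory.Q.obj ((DCoh.restrictCx U).obj G) ≅
        (DCoh.inD (U : Scheme.{u}) F)⟦-r⟧ ⊞ E) := by
  haveI : CompactSpace (U : Scheme.{u}) := isCompact_iff_compactSpace.1 hU
  have hpc := ((Perfect.FlatPerfect.isPerfect_iff_pc_tor E).1 hE).1
  obtain ⟨G, b, hb, hfree, ⟨e⟩⟩ := exists_free_affine X U hU E hpc
  have hlf : ∀ i, FlatMod.IsFinLocFree (G.X i) := fun i => by
    obtain ⟨n, ⟨a⟩⟩ := hfree i
    exact TensorMod.LocFree.of_iso a.symm (isFinLocFree_freeMod' n)
  let R := Scheme.Modules.restrictFunctor U.ι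
  let GU := (rC U.ι).obj G
  have hbU : ∀ i, b < i → IsZero (GU.X i) := fun i hi => R.map_isZero (hb i hi)
  have hlfU : ∀ i, FlatMod.IsFinLocFree (GU.X i) := fun i =>
    TensorMod.LocFree.isFinLocFree_restrict U.ι (hlf i)
  obtain ⟨A, B, hAB⟩ := ResPerf.exists_torAmplitude GU (Perfect.Triangle.isPerfect_of_iso e.symm hE)
  obtain ⟨c, hc⟩ := Vanish.exists_bound_open U hU hE
  -- `σ_{≥ r}`, whose cofibre is one vector bundle in degree `r - 1`
  let r : ℤ := min (min A B) c + 1
  have hamp : DerSch.HasTorAmplitude (𝟙 (U : Scheme.{u})) (r - 1) B GU := fun z => by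
    obtain ⟨T, hT, hTf, eT⟩ := hAB z
    exact ⟨T, fun i hi => hT i (by omega), hTf, eT⟩
  let ι := Perfect.Stupid.ι G r
  haveI : ∀ i, Mono (ι.f i) := fun i => inferInstanceAs (Mono (kernel.ι _))
  haveI : Mono ι := HomologicalComplex.mono_of_mono_f ι inferInstance
  let S := ShortComplex.mk ι (cokernel.π ι) (cokernel.condition ι)
  have hS : S.ShortExact :=
    { exact := ShortComplex.exact_of_g_is_cokernel _ (cokernelIsCokernel ι)
      mono_f := inferInstanceAs (Mono ι)
      epi_g := inferInstanceAs (Epi (cokernel.π ι)) }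
  haveI : PreservesFiniteLimits (rC U.ι) := inferInstance
  have hSU := hS.map_of_exact (rC U.ι)
  let C := (rC U.ι).obj (cokernel ι)
  let π : GU ⟶ C := (rC U.ι).map (cokernel.π ι)
  have hev : ∀ i, IsColimit (CokernelCofork.ofπ ((cokernel.π ι).f i)
      (show ι.f i ≫ (cokernel.π ι).f i = 0 by rw [← HomologicalComplex.comp_f, cokernel.condition]; rfl)) :=
    fun i => isColimitCoforkMapOfIsColimit' (HomologicalComplex.eval X.Modules (ComplexShape.up ℤ) i)
      (cokernel.condition ι) (cokernelIsCokernel ι)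
  have hzero : ∀ i, r ≤ i → IsZero (C.X i) := fun i hi => by
    refine R.map_isZero ?_
    haveI := Perfect.Stupid.isIso_ι G r i hi
    haveI : Epi ((cokernel.π ι).f i) := ⟨fun u v h => Cofork.IsColimit.hom_ext (hev i) h⟩
    refine IsZero.of_epi_eq_zero ((cokernel.π ι).f i) ?_
    rw [← cancel_epi (ι.f i), comp_zero, ← HomologicalComplex.comp_f, cokernel.condition]
    rfl
  have hπ : ∀ i, i < r → IsIso (π.f i) := fun i hi => by
    haveI : IsIso ((cokernel.π ι).f i) := by
      have h0 : ι.f i = 0 := (Perfect.Stupid.isZero_trunc G r i hi).eq_of_src _ _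
      exact CokernelCofork.IsColimit.isIso_π (CokernelCofork.ofπ ((cokernel.π ι).f i) _) (hev i) h0
    exact inferInstanceAs (IsIso (R.map ((cokernel.π ι).f i)))
  have hlow : ∀ i, i < r - 1 → C.ExactAt i := fun i hi => by
    let φ := (HomologicalComplex.shortComplexFunctor' (U : Scheme.{u}).Modules (ComplexShape.up ℤ)
      (i - 1) i (i + 1)).map π
    haveI : IsIso φ.τ₁ := hπ _ (by omega)
    haveI : IsIso φ.τ₂ := hπ _ (by omega)
    haveI : IsIso φ.τ₃ := hπ _ (by omega)
    rw [HomologicalComplex.exactAt_iff' C (i - 1) i (i + 1) (by simp) (by simp)]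
    exact (ShortComplex.exact_iff_of_epi_of_isIso_of_mono φ).1
      ((HomologicalComplex.exactAt_iff' GU (i - 1) i (i + 1) (by simp) (by simp)).1
        (BettiExact.TorAmpStalk.exactAt_of_torAmp hamp i (Or.inl hi)))
  have hFlf : FlatMod.IsFinLocFree (cokernel (C.d (r - 1 - 1) (r - 1))) := by
    haveI := hπ (r - 1 - 1) (by omega)
    haveI := hπ (r - 1) (by omega)
    exact TensorMod.LocFree.of_iso
      (cokernel.mapIso (GU.d (r - 1 - 1) (r - 1)) (C.d (r - 1 - 1) (r - 1))
        (asIso (π.f (r - 1 - 1))) (asIso (π.f (r - 1))) (π.comm _ _).symm)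
      (isFinLocFree_cokernel_d hbU hlfU hamp)
  let QC := DCoh.toD (U : Scheme.{u}) C
  haveI : QC.IsGE (r - 1) := (DerivedCategory.isGE_iff QC (r - 1)).2 fun i hi =>
    ((HomologicalComplex.exactAt_iff_isZero_homology _ i).1 (hlow i hi)).of_iso
      ((DerivedCategory.homologyFunctorFactors (U : Scheme.{u}).Modules i).app C)
  haveI : QC.IsLE (r - 1) := (DerivedCategory.isLE_iff QC (r - 1)).2 fun i hi =>
    ((HomologicalComplex.exactAt_iff_isZero_homology _ i).1
      (HomologicalComplex.ExactAt.of_isZero (hzero i (by omega)))).of_iso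
      ((DerivedCategory.homologyFunctorFactors (U : Scheme.{u}).Modules i).app C)
  obtain ⟨Y, ⟨eY⟩⟩ := DerivedCategory.exists_iso_singleFunctor_obj_of_isGE_of_isLE QC (r - 1)
  have hd0 : C.d (r - 1) (r - 1 + 1) = 0 := (hzero _ (by omega)).eq_of_tgt _ _
  let iY : Y ≅ cokernel (C.d (r - 1 - 1) (r - 1)) :=
    ((DerivedCategory.singleFunctorCompHomologyFunctorIso (U : Scheme.{u}).Modules (r - 1)).app Y).symm ≪≫
      (DerivedCategory.homologyFunctor _ (r - 1)).mapIso eY.symm ≪≫
      (DerivedCategory.homologyFunctorFactors (U : Scheme.{u}).Modules (r - 1)).app C ≪≫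
      C.isoHomologyι (r - 1) (r - 1 + 1) (by simp) hd0 ≪≫
      IsColimit.coconePointUniqueUpToIso (C.opcyclesIsCokernel (r - 1 - 1) (r - 1) (by simp))
        (colimit.isColimit (parallelPair (C.d (r - 1 - 1) (r - 1)) 0))
  have hY : FlatMod.IsFinLocFree Y := TensorMod.LocFree.of_iso iY.symm hFlf
  let T := DerivedCategory.triangleOfSES hSU
  have hT : T ∈ distTriang _ := DerivedCategory.triangleOfSES_distinguished hSU
  have hg : T.mor₂ = 0 := by
    have hq : DCoh.IsQCohD QC := by
      intro i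
      by_cases hi : i = r - 1
      · subst hi
        exact @CohBasics.Closure.isQCoh_of_iso _ _ _
          (((DerivedCategory.homologyFunctor _ (r - 1)).mapIso eY ≪≫
            (DerivedCategory.singleFunctorCompHomologyFunctorIso (U : Scheme.{u}).Modules (r - 1)).app Y)).symm
          (Modules.AffineSections.isQCoh_of_isFinLocFree hY)
      · have hz : IsZero (DCoh.HD QC i) := by
          rcases lt_or_gt_of_ne hi with h | h
          · exact DerivedCategory.isZero_of_isGE QC (r - 1) i h
          · exact DerivedCategory.isZero_of_isLE QC (r - 1) i h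
        exact Modules.AffineSections.isQCoh_of_isFinLocFree (Perfect.Stupid.isFinLocFree_isZero hz)
    have hle : QC.IsLE c := DerivedCategory.TStructure.t.isLE_of_le QC (r - 1) c (by omega)
    have h := hc QC hq hle (e.inv ≫ T.mor₂)
    exact (cancel_epi e.inv).1 (h.trans comp_zero.symm)
  obtain ⟨eb, -, -⟩ := exists_iso_binaryBiproduct_of_distTriang T.invRotate
    (inv_rot_of_distTriang _ hT) (by simp [hg]; rfl)
  let eF : QC⟦(-1 : ℤ)⟧ ≅ (DCoh.inD (U : Scheme.{u}) Y)⟦-r⟧ :=
    (shiftFunctor _ (-1 : ℤ)).mapIso (eY ≪≫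
      (((DerivedCategory.singleFunctors (U : Scheme.{u}).Modules).shiftIso (-(r - 1)) (r - 1) 0 (by omega)).app Y).symm) ≪≫
      ((shiftFunctorAdd' _ (-(r - 1)) (-1 : ℤ) (-r) (by omega)).app _).symm
  refine ⟨r, Y, Perfect.Stupid.trunc G r, hY, ?_, ⟨eb ≪≫ biprod.mapIso eF e⟩⟩
  exact ((Perfect.Triangle.isPerfect_iff _).2 fun x => ⟨X, 𝟙 X, inferInstance, x,
    (rC (𝟙 X)).obj (Perfect.Stupid.trunc G r), by simp,
    isStrictlyPerfect_map _ (isStrictlyPerfect_trunc hb hlf r), ⟨RDQ (𝟙 X) _⟩⟩)

end Groth.Agent.H56.ExtOpen.Split
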